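import Cfsg.Agent.EqLemmas

set_option autoImplicit false

/-!
Central extensions: tools for trivial Schur multipliers.
Main: `mem_commutator_sylow` (central element of order r in G' lies in P' for a Sylow r-subgroup P containing it),
`commute_of_ker_central_cyclic`, `eq_one_of_quaternion` (quaternion groups have trivial multiplier),
`hasCyclicSchurMultiplier_one` (criterion).
-/

namespace Cfsg.Agent.SLTwoMult

open Subgroup
open scoped commutatorElement

universe u in
theorem hasCyclicSchurMultiplier_one {G : Type u} [Group G] [Finite G]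
    (h : ∀ (Γ : Type u) [Group Γ] [Finite Γ] (σ : Γ →* G), Cfsg.IsStemExtension σ →
      ∀ r : ℕ, r.Prime → ∀ z ∈ σ.ker, z ^ r = 1 → z = 1) :
    Cfsg.HasCyclicSchurMultiplier G 1 := by
  refine ⟨⟨G, inferInstance, inferInstance, MonoidHom.id G, ⟨fun x => ⟨x, rfl⟩, ?_, ?_⟩, ⟨?_⟩⟩, ?_⟩
  · intro x hx
    rw [show x = 1 from hx]; exact one_mem _
  · intro x hx
    rw [show x = 1 from hx]; exact one_mem _
  · haveI : Unique (MonoidHom.id G).ker :=
      { default := 1, uniq := fun x => Subtype.ext x.2 }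
    exact MulEquiv.ofUnique
  · intro Γ _ _ σ hσ
    refine ⟨1, fun x => ⟨1, ?_⟩⟩
    rw [map_one]
    by_contra hne
    have hcard : Nat.card σ.ker ≠ 1 := fun h1 =>
      hne ((Nat.card_eq_one_iff_unique.mp h1).1.elim 1 x)
    obtain ⟨r, hr, hdvd⟩ := Nat.exists_prime_and_dvd hcard
    haveI := Fact.mk hr
    obtain ⟨z, hz⟩ := exists_prime_orderOf_dvd_card' r hdvd
    have hz1 : (z : Γ) = 1 := h Γ σ hσ r hr z z.2 (by
      rw [← hz, ← SubgroupClass.coe_pow, pow_orderOf_eq_one, OneMemClass.coe_one])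
    rw [show z = 1 from Subtype.ext hz1, orderOf_one] at hz
    exact hr.ne_one hz.symm

theorem mem_commutator_sylow {Γ : Type*} [Group Γ] [Finite Γ] {r : ℕ} [Fact r.Prime] (P : Sylow r Γ)
    (z : (P : Subgroup Γ)) (hc : (z : Γ) ∈ center Γ) (hG : (z : Γ) ∈ commutator Γ) (hz : z ^ r = 1) :
    z ∈ commutator (P : Subgroup Γ) := by
  let f : Γ →* Abelianization (P : Subgroup Γ) := MonoidHom.transfer Abelianization.of
  have h1 : f z = 1 := Abelianization.commutator_subset_ker f hG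
  have h3 := MonoidHom.transfer_eq_pow (H := (P : Subgroup Γ)) Abelianization.of (z : Γ)
    (fun k g _ => by
      rw [mul_assoc, ← (mem_center_iff.mp ((center Γ).pow_mem hc k) g), inv_mul_cancel_left])
  rw [show MonoidHom.transfer Abelianization.of (z : Γ) = f z from rfl, h1] at h3
  have h4 : z ^ (P : Subgroup Γ).index ∈ commutator (P : Subgroup Γ) :=
    (QuotientGroup.eq_one_iff _).mp h3.symm
  have hcop : Nat.Coprime (P : Subgroup Γ).index (orderOf z) :=
    Nat.Coprime.coprime_dvd_right (orderOf_dvd_of_pow_eq_one hz)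
      ((Nat.coprime_comm).mp (Nat.Prime.coprime_iff_not_dvd Fact.out |>.mpr P.not_dvd_index))
  obtain ⟨m, hm⟩ := exists_pow_eq_self_of_coprime hcop
  rw [← hm]
  exact pow_mem h4 m

theorem eq_one_of_commute {H : Type*} [Group H] (h : ∀ x y : H, x * y = y * x) {z : H}
    (hz : z ∈ commutator H) : z = 1 := by
  have hle : commutator H ≤ ⊥ := by
    rw [commutator_def, Subgroup.commutator_le]
    intro a _ b _
    rw [mem_bot, commutatorElement_def, h a b]
    group
  exact mem_bot.mp (hle hz)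

/-- Generalized quaternion groups have trivial multiplier. -/
theorem eq_one_of_quaternion {H : Type*} [Group H] {n : ℕ} [NeZero n] (ψ : H →* QuaternionGroup n)
    (hψ : Function.Surjective ψ) (hker : ψ.ker ≤ center H) {z : H} (hz : z ∈ commutator H) (hzk : z ∈ ψ.ker) :
    z = 1 := by
  obtain ⟨u, hu⟩ := hψ (.a 1)
  obtain ⟨v, hv⟩ := hψ (.xa 0)
  have hcen : ∀ k, ψ k = 1 → ∀ g, g * k = k * g := fun k hk g => mem_center_iff.mp (hker hk) g
  set d := u * (v * u * v⁻¹) with hd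
  have hψd : ψ d = 1 := by
    rw [hd, map_mul, map_mul, map_mul, map_inv, hu, hv]
    rw [show (QuaternionGroup.xa 0 : QuaternionGroup n) * .a 1 = .xa (0 + 1) from QuaternionGroup.xa_mul_a _ _]
    rw [show (QuaternionGroup.xa 0 : QuaternionGroup n)⁻¹ = .xa ((n : ZMod (2 * n)) + 0) from rfl]
    rw [QuaternionGroup.xa_mul_xa, QuaternionGroup.a_mul_a, QuaternionGroup.one_def]
    congr 1
    have h2n : (((2 * n : ℕ)) : ZMod (2 * n)) = 0 := ZMod.natCast_self _
    push_cast at h2n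
    linear_combination h2n
  set c := (u ^ n)⁻¹ * (v * v) with hc
  have hψc : ψ c = 1 := by
    rw [hc, map_mul, map_inv, map_pow, map_mul, hu, hv, QuaternionGroup.a_one_pow, QuaternionGroup.xa_mul_xa,
      inv_mul_eq_one]
    congr 1
    ring
  have hvu : v * u * v⁻¹ = u⁻¹ * d := by rw [hd]; group
  have hvv : v * v = u ^ n * c := by rw [hc]; group
  have hcd : ∀ g, g * d = d * g := hcen d hψd
  have hfix : v * u ^ n * v⁻¹ = u ^ n := by
    have h1 : u ^ n = v * v * c⁻¹ := by rw [hvv]; group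
    have h2 : v * c⁻¹ = c⁻¹ * v := hcen c⁻¹ (by rw [map_inv, hψc, inv_one]) v
    rw [h1]
    calc v * (v * v * c⁻¹) * v⁻¹ = v * v * (v * c⁻¹) * v⁻¹ := by group
      _ = v * v * (c⁻¹ * v) * v⁻¹ := by rw [h2]
      _ = _ := by group
  have hpow : (u⁻¹ * d) ^ n = (u ^ n)⁻¹ * d ^ n := by
    rw [(show Commute u⁻¹ d from hcd u⁻¹).mul_pow, inv_pow]
  have hdn : d ^ n = u ^ n * u ^ n := by
    have : v * u ^ n * v⁻¹ = (u⁻¹ * d) ^ n := by rw [← hvu, conj_pow]
    rw [hfix, hpow] at this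
    calc d ^ n = u ^ n * ((u ^ n)⁻¹ * d ^ n) := by group
      _ = _ := by rw [← this]
  set w := (u⁻¹ * u⁻¹) * d with hw
  have hwn : w ^ n = 1 := by
    rw [hw, (show Commute (u⁻¹ * u⁻¹) d from hcd _).mul_pow, (Commute.refl u⁻¹).mul_pow, hdn, inv_pow]
    group
  have hvw : v * w * v⁻¹ = w⁻¹ := by
    have : v * d * v⁻¹ = d := by rw [hcd v]; group
    calc v * w * v⁻¹ = (v * u * v⁻¹)⁻¹ * (v * u * v⁻¹)⁻¹ * (v * d * v⁻¹) := by rw [hw]; group
      _ = (u⁻¹ * d)⁻¹ * (u⁻¹ * d)⁻¹ * d := by rw [hvu, this]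
      _ = d⁻¹ * u * d⁻¹ * (u * d) := by group
      _ = d⁻¹ * u * d⁻¹ * (d * u) := by rw [hcd u]
      _ = w⁻¹ := by rw [hw]; simp [mul_assoc]
  have huw : u * w * u⁻¹ = w := by
    rw [hw]
    calc u * (u⁻¹ * u⁻¹ * d) * u⁻¹ = u⁻¹ * (d * u⁻¹) := by group
      _ = u⁻¹ * (u⁻¹ * d) := by rw [hcd u⁻¹]
      _ = _ := by group
  -- every element is `u ^ i * k` or `v * u ^ i * k`
  have hform : ∀ g : H, ∃ (e i : ℕ) (k : H), ψ k = 1 ∧ g = v ^ e * u ^ i * k := by
    intro g
    rcases hg : ψ g with i | i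
    · refine ⟨0, i.val, (u ^ i.val)⁻¹ * g, ?_, by group⟩
      rw [map_mul, map_inv, map_pow, hu, hg, QuaternionGroup.a_one_pow, inv_mul_eq_one]
      rw [ZMod.natCast_zmod_val]
    · refine ⟨1, i.val, (v * u ^ i.val)⁻¹ * g, ?_, by group⟩
      rw [map_mul, map_inv, map_mul, map_pow, hu, hv, hg, QuaternionGroup.a_one_pow,
        QuaternionGroup.xa_mul_a, inv_mul_eq_one]
      rw [zero_add, ZMod.natCast_zmod_val]
  have hnorm : (zpowers w).Normal := by
    refine ⟨fun x hx g => ?_⟩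
    have key : ∀ g ∈ ({u, v} : Set H), ∀ x ∈ zpowers w, g * x * g⁻¹ ∈ zpowers w := by
      rintro g hg _ ⟨j, rfl⟩
      rw [← conj_zpow]
      rcases hg with rfl | rfl
      · rw [huw]; exact zpow_mem (mem_zpowers w) j
      · rw [hvw]; exact zpow_mem (inv_mem (mem_zpowers w)) j
    obtain ⟨e, i, k, hk, rfl⟩ := hform g
    have hk' : k * x * k⁻¹ = x := by
      rw [← hcen k hk x]; group
    have hpw : ∀ g ∈ ({u, v} : Set H), ∀ (m : ℕ), ∀ x ∈ zpowers w, g ^ m * x * (g ^ m)⁻¹ ∈ zpowers w := by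
      intro g hg m
      induction m with
      | zero => intro x hx; simpa using hx
      | succ m ih =>
        intro x hx
        have := key g hg _ (ih x hx)
        rw [pow_succ']
        simpa [mul_assoc] using this
    have h2 := hpw v (Or.inr rfl) e _ (hpw u (Or.inl rfl) i x hx)
    have heq : v ^ e * u ^ i * k * x * (v ^ e * u ^ i * k)⁻¹ =
        v ^ e * (u ^ i * (k * x * k⁻¹) * (u ^ i)⁻¹) * (v ^ e)⁻¹ := by group
    rw [heq, hk']
    exact h2
  have hcomm : commutator H ≤ zpowers w := by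
    rw [← Subgroup.Normal.quotient_commutative_iff_commutator_le]
    have huv : Commute (u : H ⧸ zpowers w) (v : H ⧸ zpowers w) := by
      rw [commute_iff_eq, ← QuotientGroup.mk_mul, ← QuotientGroup.mk_mul, QuotientGroup.eq]
      have : (u * v)⁻¹ * (v * u) = v⁻¹ * w * v := by
        calc (u * v)⁻¹ * (v * u) = v⁻¹ * u⁻¹ * (v * u * v⁻¹) * v := by group
          _ = _ := by rw [hvu, hw]; group
      rw [this]
      simpa using hnorm.conj_mem w (mem_zpowers w) v⁻¹
    refine ⟨⟨fun a b => ?_⟩⟩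
    obtain ⟨a, rfl⟩ := QuotientGroup.mk_surjective a
    obtain ⟨b, rfl⟩ := QuotientGroup.mk_surjective b
    obtain ⟨e, i, k, hk, rfl⟩ := hform a
    obtain ⟨e', i', k', hk', rfl⟩ := hform b
    have hkc : ∀ {k : H}, ψ k = 1 → ∀ g : H, Commute (k : H ⧸ zpowers w) (g : H ⧸ zpowers w) := by
      intro k hk g
      rw [commute_iff_eq, ← QuotientGroup.mk_mul, ← QuotientGroup.mk_mul, hcen k hk g]
    show Commute _ _
    simp only [QuotientGroup.mk_mul, QuotientGroup.mk_pow]
    have cv : Commute (v : H ⧸ zpowers w) ((v : H ⧸ zpowers w) ^ e' * (u : H ⧸ zpowers w) ^ i' * (k' : H ⧸ zpowers w)) :=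
      (((Commute.refl _).pow_right e').mul_right (huv.symm.pow_right i')).mul_right (hkc hk' v).symm
    have cu : Commute (u : H ⧸ zpowers w) ((v : H ⧸ zpowers w) ^ e' * (u : H ⧸ zpowers w) ^ i' * (k' : H ⧸ zpowers w)) :=
      ((huv.pow_right e').mul_right ((Commute.refl _).pow_right i')).mul_right (hkc hk' u).symm
    refine ((cv.pow_left e).mul_left (cu.pow_left i)).mul_left ?_
    exact ((hkc hk v).pow_right e' |>.mul_right ((hkc hk u).pow_right i')).mul_right (hkc hk k')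
  obtain ⟨j, rfl⟩ := hcomm hz
  have h : ψ w ^ j = 1 := by rw [← map_zpow]; exact hzk
  have hψw : orderOf (ψ w) = n := by
    rw [hw, map_mul, hψd, mul_one, map_mul, map_inv, hu, ← mul_inv_rev, orderOf_inv, ← pow_two,
      orderOf_pow' _ two_ne_zero, QuaternionGroup.orderOf_a_one, Nat.gcd_eq_right (dvd_mul_right 2 n),
      Nat.mul_div_cancel_left n two_pos]
  obtain ⟨i, rfl⟩ : (n : ℤ) ∣ j := by
    rw [← hψw]; exact orderOf_dvd_iff_zpow_eq_one.mpr h
  show w ^ ((n : ℤ) * i) = 1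
  rw [zpow_mul, zpow_natCast, hwn, one_zpow]

end Cfsg.Agent.SLTwoMult
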